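import Cfsg.Agent.Lib.Helper1.KS.A2
import Cfsg.Agent.Lib.Helper1.KS.A3
import Cfsg.Agent.Lib.Helper8.KS.A4
import Cfsg.Agent.Lib.Helper8.KS.A5

/-!
# K-S 12.3, piece A8a (helper84 for helper33's farm)
-/

set_option autoImplicit false

namespace Cfsg.Agent.Lib.Helper84.KS

open Subgroup
open Cfsg.Agent.Lib.Helper22 (conjS mem_conjS conjS_mem conjS_mul conjS_one conjS_eq_of_mem_normalizer)
open Cfsg.Agent.Lib.Helper48 (ZN MS)
open Cfsg.Agent.Lib.Helper33.KS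
open Cfsg.Agent.Lib.Helper1.KS Cfsg.Agent.Lib.Helper8.KS

universe u

variable {G : Type u} [Group G] [Finite G] {M T K L : Subgroup G}

theorem a8_eq_of_le_of_card_two {A B : Subgroup G} (hAB : A ≤ B) (hA : A ≠ ⊥)
    (hB : Nat.card B = 2) : A = B := by
  have hd : Nat.card A ∣ 2 := hB ▸ Subgroup.card_dvd_of_le hAB
  have h1 : Nat.card A ≠ 1 := fun h => hA (Subgroup.card_eq_one.mp h)
  have h2 : Nat.card A = 2 := by
    rcases (Nat.dvd_prime Nat.prime_two).mp hd with h | h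
    · exact absurd h h1
    · exact h
  exact Subgroup.eq_of_le_of_card_ge hAB (by rw [hB, h2])

theorem a8_mem_normalizer_J {s : G} (hsN : s ∈ normalizer (T : Set G)) :
    s ∈ normalizer (JT T : Set G) :=
  Cfsg.Agent.Lib.Helper48.normalizer_le_normalizer_thompsonSubgroupOf 2 T hsN

theorem a8_mem_normalizer_Z0 {s : G} (hsN : s ∈ normalizer (T : Set G)) :
    s ∈ normalizer (Z0 T : Set G) :=
  Cfsg.Agent.Lib.Helper48.normalizer_le_normalizer_omegaCenterOf (JT T) (a8_mem_normalizer_J hsN)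

theorem a8_YY_le : YY T K ≤ Z0 T := inf_le_left

theorem a8_conj_YY_le {s : G} (hsN : s ∈ normalizer (T : Set G)) : conjS s (YY T K) ≤ Z0 T := by
  have h1 : conjS s (YY T K) ≤ conjS s (Z0 T) := Subgroup.map_mono a8_YY_le
  rwa [conjS_eq_of_mem_normalizer (a8_mem_normalizer_Z0 hsN)] at h1

theorem a8_disj (h : KD M T K L) (S : Sylow 2 G) (hTS : T ≤ S) {s : G} (hsS : s ∈ S)
    (hsN : s ∈ normalizer (T : Set G)) (hsT : s ∉ T) :
    YY T K ⊓ conjS s (YY T K) = ⊥ := by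
  rw [eq_bot_iff]
  intro y' hy'
  obtain ⟨h1, h2⟩ := mem_inf.mp hy'
  rw [mem_conjS] at h2
  rw [mem_bot]
  by_contra hne
  have hy1 : s⁻¹ * y' * s ≠ 1 := by
    intro h0
    apply hne
    have : y' = s * (s⁻¹ * y' * s) * s⁻¹ := by group
    rw [this, h0]; group
  have h3 : s * (s⁻¹ * y' * s) * s⁻¹ ∈ YY T K := by
    have : s * (s⁻¹ * y' * s) * s⁻¹ = y' := by group
    rw [this]; exact h1
  exact not_mem_L h S hTS hsS hsT (mem_of_conj_mem h (a8_mem_normalizer_J hsN) h2 hy1 h3)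

/-- the product map `Y × Y^s → Z₀`. -/
def a8_prodMap (T K : Subgroup G) {s : G} (hsN : s ∈ normalizer (T : Set G)) :
    (YY T K) × (conjS s (YY T K)) → Z0 T :=
  fun g => ⟨(g.1 : G) * (g.2 : G), (Z0 T).mul_mem (a8_YY_le g.1.2) (a8_conj_YY_le hsN g.2.2)⟩

theorem a8_prodMap_injective (h : KD M T K L) (S : Sylow 2 G) (hTS : T ≤ S) {s : G} (hsS : s ∈ S)
    (hsN : s ∈ normalizer (T : Set G)) (hsT : s ∉ T) :
    Function.Injective (a8_prodMap T K hsN) := by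
  have hd : Disjoint (YY T K) (conjS s (YY T K)) :=
    disjoint_iff.mpr (a8_disj h S hTS hsS hsN hsT)
  intro a b hab
  exact Subgroup.mul_injective_of_disjoint hd (congrArg Subtype.val hab)

theorem card_YY_le (h : KD M T K L) (S : Sylow 2 G) (hTS : T ≤ S) {s : G} (hsS : s ∈ S)
    (hsN : s ∈ normalizer (T : Set G)) (hsT : s ∉ T) :
    YY T K ⊓ conjS s (YY T K) = ⊥ ∧ Nat.card (YY T K) ≤ 2 := by
  refine ⟨a8_disj h S hTS hsS hsN hsT, ?_⟩
  have h1 := Nat.card_le_card_of_injective _ (a8_prodMap_injective h S hTS hsS hsN hsT)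
  rw [Nat.card_prod, Cfsg.Agent.Lib.Helper48.card_conjS,
    card_Z0 h.ms.zn h.ms.hT2 h.ms.hT1 h.hK] at h1
  have hpos : 0 < Nat.card (YY T K) := Nat.card_pos
  exact Nat.le_of_mul_le_mul_right h1 hpos

theorem exists_s (hT2 : IsPGroup 2 T) (S : Sylow 2 G) (hTS : T ≤ S) (hne : T ≠ S) :
    ∃ s ∈ (S : Subgroup G), s ∈ normalizer (T : Set G) ∧ s ∉ T ∧ s * s ∈ T := by
  haveI : Fact (Nat.Prime 2) := ⟨Nat.prime_two⟩
  obtain ⟨x, hxS, hxN, hxT⟩ := Cfsg.Agent.Lib.Helper22.exists_mem_normalizer_not_mem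
    (q := 2) (Q := T) (R := (S : Subgroup G)) S.2 (lt_of_le_of_ne hTS hne)
  have hex : ∃ k : ℕ, x ^ (2 ^ k) ∈ T := by
    obtain ⟨k, hk⟩ := S.2 ⟨x, hxS⟩
    refine ⟨k, ?_⟩
    have : x ^ (2 ^ k) = 1 := by
      have := congrArg Subtype.val hk
      simpa using this
    rw [this]; exact T.one_mem
  classical
  have hk0 : Nat.find hex ≠ 0 := by
    intro h0
    have := Nat.find_spec hex
    rw [h0] at this
    simp at this
    exact hxT this
  obtain ⟨j, hj⟩ := Nat.exists_eq_succ_of_ne_zero hk0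
  refine ⟨x ^ (2 ^ j), (S : Subgroup G).pow_mem hxS _, (normalizer (T : Set G)).pow_mem hxN _,
    ?_, ?_⟩
  · exact Nat.find_min hex (by omega)
  · have := Nat.find_spec hex
    rw [hj, Nat.succ_eq_add_one, pow_succ, pow_mul, pow_two] at this
    exact this

theorem lt_case_one (h : KD M T K L) (S : Sylow 2 G) (hTS : T ≤ S) (hY : Nat.card (YY T K) = 1) :
    LtOut T K L S := by
  have hc : Nat.card (Z0 T) = 2 := by
    rw [card_Z0 h.ms.zn h.ms.hT2 h.ms.hT1 h.hK, hY]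
  have h1 : Cfsg.omegaCenterOf (S : Subgroup G) ≠ ⊥ := omegaCenterOf_sylow_ne_bot h.hO h.ms.zn S
  have h2 : Cfsg.omegaCenterOf (S : Subgroup G) ≤ Cfsg.omegaCenterOf T :=
    omegaCenterOf_sylow_le h S hTS
  have h3 : Cfsg.omegaCenterOf T ≤ Z0 T := omegaCenterOf_le_Z0 h.ms.hT2
  have h4 : Cfsg.omegaCenterOf (S : Subgroup G) = Z0 T :=
    a8_eq_of_le_of_card_two (h2.trans h3) h1 hc
  have h5 : Cfsg.omegaCenterOf T = Z0 T := le_antisymm h3 (h4 ▸ h2)
  exact ⟨by rw [h4]; exact hc, h5, Or.inl ⟨h4, hc⟩⟩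

end Cfsg.Agent.Lib.Helper84.KS
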