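import Cfsg.Agent.Lib.Helper84.KS.A8a

/-!
# K-S 12.3, piece A8b (helper84 for helper33's farm)
-/

set_option autoImplicit false

namespace Cfsg.Agent.Lib.Helper84.KS

open Subgroup
open Cfsg.Agent.Lib.Helper22 (conjS mem_conjS conjS_mem conjS_mul conjS_one conjS_eq_of_mem_normalizer)
open Cfsg.Agent.Lib.Helper48 (ZN MS)
open Cfsg.Agent.Lib.Helper33.KS
open Cfsg.Agent.Lib.Helper1.KS Cfsg.Agent.Lib.Helper8.KS

universe u

variable {G : Type u} [Group G] [Finite G] {M T K L : Subgroup G}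

theorem a8_elems_of_card_two {A : Subgroup G} (hA : Nat.card A = 2) {y : G} (hy : y ∈ A)
    (hy1 : y ≠ 1) : ∀ a ∈ A, a = 1 ∨ a = y := by
  intro a ha
  by_cases ha1 : a = 1
  · exact Or.inl ha1
  · right
    obtain ⟨w, -, hw⟩ := (Nat.card_eq_two_iff' (1 : A)).mp hA
    have e1 : (⟨a, ha⟩ : A) = w := hw _ (fun h0 => ha1 (congrArg Subtype.val h0))
    have e2 : (⟨y, hy⟩ : A) = w := hw _ (fun h0 => hy1 (congrArg Subtype.val h0))
    exact congrArg Subtype.val (e1.trans e2.symm)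

theorem a8_Z0_sq {u : G} (hu : u ∈ Z0 T) : u * u = 1 := by
  have := (Cfsg.Agent.Lib.Helper10.isEA_iff.mp
    (Cfsg.Agent.Lib.Helper48.isEA_omegaCenterOf (JT T))).2 u hu
  rwa [pow_two] at this

theorem a8_Z0_comm {u v : G} (hu : u ∈ Z0 T) (hv : v ∈ Z0 T) : u * v = v * u :=
  (Cfsg.Agent.Lib.Helper10.isEA_iff.mp
    (Cfsg.Agent.Lib.Helper48.isEA_omegaCenterOf (JT T))).1 u hu v hv

theorem a8_conj_mem_Z0 {s u : G} (hsN : s ∈ normalizer (Z0 T : Set G)) (hu : u ∈ Z0 T) :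
    s * u * s⁻¹ ∈ Z0 T := (mem_normalizer_iff.mp hsN u).mp hu

theorem a8_commute_of_mem_omegaCenterOf {P : Subgroup G} {u s : G}
    (hu : u ∈ Cfsg.omegaCenterOf P) (hs : s ∈ P) : s * u * s⁻¹ = u := by
  have h1 := (mem_inf.mp (Cfsg.Agent.Lib.Helper48.omegaCenterOf_le P hu)).2
  have h2 := mem_centralizer_iff.mp h1 s hs
  rw [h2]; group

theorem lt_case_two_a (h : KD M T K L) (S : Sylow 2 G) (hTS : T ≤ S)
    (hY : Nat.card (YY T K) = 2) {s : G} (hsS : s ∈ S)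
    (hsN : s ∈ normalizer (T : Set G)) (hsT : s ∉ T) :
    ∃ y ∈ YY T K, y ≠ 1 ∧ y * y = 1 ∧ s * y * s⁻¹ ∈ Z0 T ∧ s * y * s⁻¹ ≠ y ∧
      (∀ u ∈ Z0 T, u = 1 ∨ u = y ∨ u = s * y * s⁻¹ ∨ u = y * (s * y * s⁻¹)) ∧
      (∀ u ∈ Cfsg.omegaCenterOf (S : Subgroup G), u = 1 ∨ u = y * (s * y * s⁻¹)) ∧
      y * (s * y * s⁻¹) ∈ Cfsg.omegaCenterOf (S : Subgroup G) ∧
      Nat.card (Cfsg.omegaCenterOf (S : Subgroup G)) = 2 := by
  have hYne : YY T K ≠ ⊥ := by
    intro h0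
    rw [h0] at hY
    simp at hY
  obtain ⟨y, hy, hy1⟩ := (Subgroup.ne_bot_iff_exists_ne_one).mp hYne |>.elim
    (fun a ha => (⟨(a : G), a.2, fun h0 => ha (Subtype.ext h0)⟩ : ∃ y ∈ YY T K, y ≠ 1))
  have hyZ : y ∈ Z0 T := a8_YY_le hy
  have hyy : y * y = 1 := a8_Z0_sq hyZ
  have hsZ := a8_mem_normalizer_Z0 hsN
  have hysZ : s * y * s⁻¹ ∈ Z0 T := a8_conj_mem_Z0 hsZ hyZ
  have hdisj := a8_disj h S hTS hsS hsN hsT
  have hys_ne : s * y * s⁻¹ ≠ y := by
    intro h0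
    have h1 : y ∈ YY T K ⊓ conjS s (YY T K) := by
      refine mem_inf.mpr ⟨hy, ?_⟩
      rw [← h0]; exact conjS_mem hy
    rw [hdisj, mem_bot] at h1
    exact hy1 h1
  have hys1 : s * y * s⁻¹ ≠ 1 := by
    intro h0
    apply hy1
    have : y = s⁻¹ * (s * y * s⁻¹) * s := by group
    rw [this, h0]; group
  have hcZ : Nat.card (Z0 T) = 4 := by
    rw [card_Z0 h.ms.zn h.ms.hT2 h.ms.hT1 h.hK, hY]
  have hcs : Nat.card (conjS s (YY T K)) = 2 := by
    rw [Cfsg.Agent.Lib.Helper48.card_conjS, hY]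
  have hall : ∀ u ∈ Z0 T, u = 1 ∨ u = y ∨ u = s * y * s⁻¹ ∨ u = y * (s * y * s⁻¹) := by
    intro u hu
    have hinj := a8_prodMap_injective h S hTS hsS hsN hsT
    have hbij : Function.Bijective (a8_prodMap T K hsN) := by
      rw [Nat.bijective_iff_injective_and_card]
      refine ⟨hinj, ?_⟩
      rw [Nat.card_prod, hY, hcs, hcZ]
    obtain ⟨⟨a, b⟩, hab⟩ := hbij.2 ⟨u, hu⟩
    have hab' : (a : G) * (b : G) = u := congrArg Subtype.val hab
    rcases a8_elems_of_card_two hY hy hy1 a a.2 with ha | ha <;>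
    rcases a8_elems_of_card_two hcs (conjS_mem hy) hys1 b b.2 with hb | hb
    · left; rw [← hab', ha, hb, one_mul]
    · right; right; left; rw [← hab', ha, hb, one_mul]
    · right; left; rw [← hab', ha, hb, mul_one]
    · right; right; right; rw [← hab', ha, hb]
  have hSle : Cfsg.omegaCenterOf (S : Subgroup G) ≤ Z0 T :=
    (omegaCenterOf_sylow_le h S hTS).trans (omegaCenterOf_le_Z0 h.ms.hT2)
  have hSall : ∀ u ∈ Cfsg.omegaCenterOf (S : Subgroup G), u = 1 ∨ u = y * (s * y * s⁻¹) := by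
    intro u hu
    have hc := a8_commute_of_mem_omegaCenterOf hu hsS
    rcases hall u (hSle hu) with h0 | h0 | h0 | h0
    · exact Or.inl h0
    · exact absurd (h0 ▸ hc) hys_ne
    · exfalso
      apply hys_ne
      rw [h0] at hc
      have : s * y * s⁻¹ = s⁻¹ * (s * (s * y * s⁻¹) * s⁻¹) * s := by group
      rw [this, hc]; group
    · exact Or.inr h0
  have hSne := omegaCenterOf_sylow_ne_bot h.hO h.ms.zn S
  obtain ⟨u, hu, hu1⟩ := (Subgroup.ne_bot_iff_exists_ne_one).mp hSne |>.elim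
    (fun a ha => (⟨(a : G), a.2, fun h0 => ha (Subtype.ext h0)⟩ :
      ∃ y ∈ Cfsg.omegaCenterOf (S : Subgroup G), y ≠ 1))
  have huz : u = y * (s * y * s⁻¹) := (hSall u hu).resolve_left hu1
  have hzS : y * (s * y * s⁻¹) ∈ Cfsg.omegaCenterOf (S : Subgroup G) := huz ▸ hu
  refine ⟨y, hy, hy1, hyy, hysZ, hys_ne, hall, hSall, hzS, ?_⟩
  rw [Nat.card_eq_two_iff]
  refine ⟨1, ⟨_, hzS⟩, ?_, ?_⟩
  · intro h0
    apply hu1
    rw [huz]
    exact (congrArg Subtype.val h0).symm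
  · ext v
    simp only [Set.mem_insert_iff, Set.mem_singleton_iff, Set.mem_univ, iff_true]
    rcases hSall v v.2 with h0 | h0
    · left; exact Subtype.ext h0
    · right; exact Subtype.ext h0

theorem lt_case_two_b (h : KD M T K L) (S : Sylow 2 G) (hTS : T ≤ S)
    (hY : Nat.card (YY T K) = 2) (hne : T ≠ S) : Cfsg.omegaCenterOf T = Z0 T := by
  obtain ⟨s, hsS, hsN, hsT, -⟩ := exists_s h.ms.hT2 S hTS hne
  obtain ⟨y, hy, hy1, hyy, hysZ, hys_ne, hall, hSall, hzS, -⟩ :=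
    lt_case_two_a h S hTS hY hsS hsN hsT
  have hyZ : y ∈ Z0 T := a8_YY_le hy
  refine le_antisymm (omegaCenterOf_le_Z0 h.ms.hT2) ?_
  -- `T` centralizes `y`
  have hTy : ∀ t ∈ T, t * y * t⁻¹ = y := by
    intro t ht
    have htN : t ∈ normalizer (T : Set G) := le_normalizer ht
    have h1 : t * y * t⁻¹ ∈ Z0 T := a8_conj_mem_Z0 (a8_mem_normalizer_Z0 htN) hyZ
    rcases hall _ h1 with h0 | h0 | h0 | h0
    · exfalso; apply hy1
      have : y = t⁻¹ * (t * y * t⁻¹) * t := by group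
      rw [this, h0]; group
    · exact h0
    · exfalso
      have h2 : (s⁻¹ * t) * y * (s⁻¹ * t)⁻¹ = y := by
        have : (s⁻¹ * t) * y * (s⁻¹ * t)⁻¹ = s⁻¹ * (t * y * t⁻¹) * s := by group
        rw [this, h0]; group
      have h3 : s⁻¹ * t ∈ normalizer (JT T : Set G) :=
        (normalizer (JT T : Set G)).mul_mem
          ((normalizer (JT T : Set G)).inv_mem (a8_mem_normalizer_J hsN)) (a8_mem_normalizer_J htN)
      have h4 : s⁻¹ * t ∈ L := mem_of_conj_mem h h3 hy hy1 (by rw [h2]; exact hy)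
      have h5 : s ∈ L := by
        have : s = t * (s⁻¹ * t)⁻¹ := by group
        rw [this]
        exact L.mul_mem (h.hTL.1 ht) (L.inv_mem h4)
      exact not_mem_L h S hTS hsS hsT h5
    · exfalso
      have h2 := a8_commute_of_mem_omegaCenterOf hzS ((S : Subgroup G).inv_mem (hTS ht))
      rw [← h0] at h2
      have h3 : y = t * y * t⁻¹ := by
        rw [← h2]; group
      rw [h0] at h3
      have h4 : s * y * s⁻¹ = 1 := by
        have : s * y * s⁻¹ = y⁻¹ * (y * (s * y * s⁻¹)) := by group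
        rw [this, ← h3]; group
      apply hy1
      have : y = s⁻¹ * (s * y * s⁻¹) * s := by group
      rw [this, h4]; group
  have hTz : ∀ t ∈ T, t * (y * (s * y * s⁻¹)) * t⁻¹ = y * (s * y * s⁻¹) := fun t ht =>
    a8_commute_of_mem_omegaCenterOf hzS (hTS ht)
  have hTys : ∀ t ∈ T, t * (s * y * s⁻¹) * t⁻¹ = s * y * s⁻¹ := by
    intro t ht
    have e1 : t * (s * y * s⁻¹) * t⁻¹ = (t * y * t⁻¹)⁻¹ * (t * (y * (s * y * s⁻¹)) * t⁻¹) := by
      group
    rw [e1, hTy t ht, hTz t ht]; group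
  intro u hu
  have huT : u ∈ T := Cfsg.Agent.Lib.Helper48.thompsonSubgroupOf_le' 2 T
    (mem_inf.mp (Cfsg.Agent.Lib.Helper48.omegaCenterOf_le _ hu)).1
  have hcen : ∀ t ∈ T, t * u * t⁻¹ = u := by
    intro t ht
    rcases hall u hu with h0 | h0 | h0 | h0
    · rw [h0]; group
    · rw [h0]; exact hTy t ht
    · rw [h0]; exact hTys t ht
    · rw [h0]; exact hTz t ht
  refine Subgroup.subset_closure ⟨mem_inf.mpr ⟨huT, ?_⟩, by rw [pow_two]; exact a8_Z0_sq hu⟩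
  rw [mem_centralizer_iff]
  intro t ht
  have := hcen t ht
  calc t * u = t * u * t⁻¹ * t := by group
    _ = u * t := by rw [this]

end Cfsg.Agent.Lib.Helper84.KS
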