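import Cfsg.Agent.Lib.Helper84.KS.A8b

/-!
# K-S 12.3, piece A8c (helper84 for helper33's farm)
-/

set_option autoImplicit false

namespace Cfsg.Agent.Lib.Helper84.KS

open Subgroup
open Cfsg.Agent.Lib.Helper22 (conjS mem_conjS conjS_mem conjS_mul conjS_one conjS_eq_of_mem_normalizer)
open Cfsg.Agent.Lib.Helper48 (ZN MS)
open Cfsg.Agent.Lib.Helper33.KS
open Cfsg.Agent.Lib.Helper1.KS Cfsg.Agent.Lib.Helper8.KS

universe u

variable {G : Type u} [Group G] [Finite G] {M T K L : Subgroup G}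

theorem lt_case_two_c (h : KD M T K L) (S : Sylow 2 G)
    (hMJ : normalizer (JT (S : Subgroup G) : Set G) ≤ M) (hTS : T ≤ S)
    (hY : Nat.card (YY T K) = 2) (hne : T ≠ S) :
    (L ⊓ centralizer (Z0 T : Set G)).relIndex (normalizer (Z0 T : Set G)) = 2 := by
  obtain ⟨s, hsS, hsN, hsT, -⟩ := exists_s h.ms.hT2 S hTS hne
  obtain ⟨y, hy, hy1, hyy, hysZ, hys_ne, hall, hSall, hzS, -⟩ :=
    lt_case_two_a h S hTS hY hsS hsN hsT
  have hyZ : y ∈ Z0 T := a8_YY_le hy
  have hSM : (S : Subgroup G) ≤ M := Cfsg.Agent.Lib.Helper48.sylow_le_of S hMJ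
  have hsZ := a8_mem_normalizer_Z0 hsN
  set z : G := y * (s * y * s⁻¹) with hz
  have hzZ : z ∈ Z0 T := (Z0 T).mul_mem hyZ hysZ
  have hys1 : s * y * s⁻¹ ≠ 1 := by
    intro h0
    apply hy1
    have : y = s⁻¹ * (s * y * s⁻¹) * s := by group
    rw [this, h0]; group
  have hz1 : z ≠ 1 := by
    intro h0
    apply hys_ne
    have : s * y * s⁻¹ = y⁻¹ * z := by rw [hz]; group
    rw [this, h0, mul_one]
    exact inv_eq_of_mul_eq_one_left hyy
  have hzy : z ≠ y := by
    intro h0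
    apply hys1
    have : s * y * s⁻¹ = y⁻¹ * z := by rw [hz]; group
    rw [this, h0]; group
  -- `N(Z0) ≤ M`
  have hZ2 : IsPGroup 2 (Z0 T) :=
    h.ms.hT2.to_le (((Cfsg.Agent.Lib.Helper48.omegaCenterOf_le _).trans inf_le_left).trans
      (Cfsg.Agent.Lib.Helper48.thompsonSubgroupOf_le' 2 T))
  have hZne : Z0 T ≠ ⊥ := by
    intro h0
    rw [h0, mem_bot] at hyZ
    exact hy1 hyZ
  have hNM : normalizer (Z0 T : Set G) ≤ M := by
    have hle : T ⊔ zpowers s ≤ (S : Subgroup G) := sup_le hTS (by rwa [zpowers_le])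
    refine h.big (T ⊔ zpowers s) _ (S.2.to_le hle) (hle.trans hSM) le_sup_left ?_
      ⟨Z0 T, hZ2, hZne, rfl⟩ ?_
    · intro h0
      exact hsT (h0 (le_sup_right (a := T) (mem_zpowers s)))
    · refine sup_le ?_ (by rwa [zpowers_le])
      intro t ht
      exact a8_mem_normalizer_Z0 (le_normalizer ht)
  -- `C(z) ≤ M`
  have hCz : ∀ g : G, g * z * g⁻¹ = z → g ∈ M := by
    intro g hg
    have h1 : g ∈ centralizer (Cfsg.omegaCenterOf (S : Subgroup G) : Set G) := by
      rw [mem_centralizer_iff]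
      intro u hu
      rcases hSall u hu with h0 | h0
      · rw [h0]; simp
      · rw [h0]
        calc z * g = g * z * g⁻¹ * g := by rw [hg]
          _ = g * z := by group
    exact hMJ (Cfsg.Agent.Lib.Helper48.normalizer_le_normalizer_thompsonSubgroupOf 2 _
      (h.ms.zn.hZ S h1))
  -- no element of `M` conjugates `z` to `y`
  have hMzy : ∀ m ∈ M, m * z * m⁻¹ ≠ y := by
    intro m hm h0
    apply h.hKM
    intro k hk
    have hky : k * y = y * k := by
      have := mem_centralizer_iff.mp (mem_inf.mp hy).2 k hk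
      exact this
    have h1 : (m⁻¹ * k * m) * z * (m⁻¹ * k * m)⁻¹ = z := by
      have e : (m⁻¹ * k * m) * z * (m⁻¹ * k * m)⁻¹ = m⁻¹ * (k * (m * z * m⁻¹) * k⁻¹) * m := by
        group
      rw [e, h0, hky]
      have e2 : m⁻¹ * (y * k * k⁻¹) * m = m⁻¹ * y * m := by group
      rw [e2, ← h0]; group
    have h2 := hCz _ h1
    have : k = m * (m⁻¹ * k * m) * m⁻¹ := by group
    rw [this]
    exact M.mul_mem (M.mul_mem hm h2) (M.inv_mem hm)
  have hsM : s ∈ M := hSM hsS
  have hsz : s * z * s⁻¹ = z := a8_commute_of_mem_omegaCenterOf hzS hsS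
  -- elements of `N(Z0)` fix `z`
  have hNz : ∀ n ∈ normalizer (Z0 T : Set G), n * z * n⁻¹ = z := by
    intro n hn
    have h1 : n * z * n⁻¹ ∈ Z0 T := a8_conj_mem_Z0 hn hzZ
    rcases hall _ h1 with h0 | h0 | h0 | h0
    · exfalso; apply hz1
      have : z = n⁻¹ * (n * z * n⁻¹) * n := by group
      rw [this, h0]; group
    · exact absurd h0 (hMzy n (hNM hn))
    · exfalso
      refine hMzy (s⁻¹ * n) (M.mul_mem (M.inv_mem hsM) (hNM hn)) ?_
      have : (s⁻¹ * n) * z * (s⁻¹ * n)⁻¹ = s⁻¹ * (n * z * n⁻¹) * s := by group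
      rw [this, h0]; group
    · exact h0
  -- centralizing `y` and `z` is centralizing `Z0`
  have hcen : ∀ g : G, g * y * g⁻¹ = y → g * z * g⁻¹ = z → g ∈ centralizer (Z0 T : Set G) := by
    intro g hgy hgz
    have hgys : g * (s * y * s⁻¹) * g⁻¹ = s * y * s⁻¹ := by
      have e1 : g * (s * y * s⁻¹) * g⁻¹ = (g * y * g⁻¹)⁻¹ * (g * z * g⁻¹) := by
        rw [hz]; group
      rw [e1, hgy, hgz, hz]; group
    rw [mem_centralizer_iff]
    intro u hu
    have hgu : g * u * g⁻¹ = u := by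
      rcases hall u hu with h0 | h0 | h0 | h0
      · rw [h0]; group
      · rw [h0]; exact hgy
      · rw [h0]; exact hgys
      · rw [h0]; exact hgz
    calc u * g = g * u * g⁻¹ * g := by rw [hgu]
      _ = g * u := by group
  have hdich : ∀ n ∈ normalizer (Z0 T : Set G),
      n ∈ centralizer (Z0 T : Set G) ∨ s⁻¹ * n ∈ centralizer (Z0 T : Set G) := by
    intro n hn
    have hnz := hNz n hn
    have h1 : n * y * n⁻¹ ∈ Z0 T := a8_conj_mem_Z0 hn hyZ
    rcases hall _ h1 with h0 | h0 | h0 | h0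
    · exfalso; apply hy1
      have : y = n⁻¹ * (n * y * n⁻¹) * n := by group
      rw [this, h0]; group
    · exact Or.inl (hcen n h0 hnz)
    · right
      refine hcen _ ?_ ?_
      · have : (s⁻¹ * n) * y * (s⁻¹ * n)⁻¹ = s⁻¹ * (n * y * n⁻¹) * s := by group
        rw [this, h0]; group
      · have : (s⁻¹ * n) * z * (s⁻¹ * n)⁻¹ = s⁻¹ * (n * z * n⁻¹) * s := by group
        rw [this, hnz]
        have e : s⁻¹ * z * s = s⁻¹ * (s * z * s⁻¹) * s := by rw [hsz]
        rw [e]; group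
    · exfalso
      apply hzy
      have e1 : y = n⁻¹ * (n * y * n⁻¹) * n := by group
      have e2 : z = n⁻¹ * (n * z * n⁻¹) * n := by group
      rw [e1, h0]
      conv_lhs => rw [e2]
      rw [hnz]
  have hsC : s ∉ centralizer (Z0 T : Set G) := by
    intro h0
    apply hys_ne
    have := mem_centralizer_iff.mp h0 y hyZ
    rw [← this]; group
  have hCL : centralizer (Z0 T : Set G) ≤ L := by
    refine le_trans ?_ (cent_le h hy hy1)
    exact centralizer_le (by simpa using hyZ)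
  have hLC : L ⊓ centralizer (Z0 T : Set G) = centralizer (Z0 T : Set G) :=
    inf_eq_right.mpr hCL
  rw [hLC, Subgroup.relIndex, Subgroup.index_eq_two_iff]
  refine ⟨⟨s, hsZ⟩, ?_⟩
  intro b
  simp only [mem_subgroupOf, Subgroup.coe_mul]
  have hb := hdich (b : G)⁻¹ ((normalizer (Z0 T : Set G)).inv_mem b.2)
  by_cases hbC : (b : G) ∈ centralizer (Z0 T : Set G)
  · right
    refine ⟨hbC, ?_⟩
    intro h0
    apply hsC
    have : s = (b : G)⁻¹ * ((b : G) * s) := by group
    rw [this]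
    exact (centralizer (Z0 T : Set G)).mul_mem ((centralizer (Z0 T : Set G)).inv_mem hbC) h0
  · left
    refine ⟨?_, hbC⟩
    rcases hb with h0 | h0
    · exact absurd (by simpa using (centralizer (Z0 T : Set G)).inv_mem h0) hbC
    · have : (b : G) * s = (s⁻¹ * (b : G)⁻¹)⁻¹ := by group
      rw [this]
      exact (centralizer (Z0 T : Set G)).inv_mem h0

theorem lt_case (h : KD M T K L) (S : Sylow 2 G)
    (hMJ : normalizer (JT (S : Subgroup G) : Set G) ≤ M) (hTS : T ≤ S) (hne : T ≠ S) :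
    LtOut T K L S := by
  obtain ⟨s, hsS, hsN, hsT, -⟩ := exists_s h.ms.hT2 S hTS hne
  have hle := (card_YY_le h S hTS hsS hsN hsT).2
  have hpos : 0 < Nat.card (YY T K) := Nat.card_pos
  have hcases : Nat.card (YY T K) = 1 ∨ Nat.card (YY T K) = 2 := by omega
  rcases hcases with hY | hY
  · exact lt_case_one h S hTS hY
  · obtain ⟨-, -, -, -, -, -, -, -, -, hc2⟩ := lt_case_two_a h S hTS hY hsS hsN hsT
    refine ⟨hc2, lt_case_two_b h S hTS hY hne, Or.inr ⟨?_, lt_case_two_c h S hMJ hTS hY hne, ?_⟩⟩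
    · rw [card_Z0 h.ms.zn h.ms.hT2 h.ms.hT1 h.hK, hY]
    · intro s' hs'S hs'N hs'T
      obtain ⟨y, hy, hy1, -, -, -, hall, -, hzS, -⟩ := lt_case_two_a h S hTS hY hs'S hs'N hs'T
      refine ⟨y, hy, hy1, ?_⟩
      intro u hu
      rcases hall u hu with h0 | h0 | h0 | h0
      · right; right; rw [h0]; exact Subgroup.one_mem _
      · exact Or.inl h0
      · exact Or.inr (Or.inl h0)
      · right; right; rw [h0]; exact hzS

end Cfsg.Agent.Lib.Helper84.KS
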